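import Mathlib
import Cfsg.Agent.H87Ord.O756
import Cfsg.Agent.H87Ord.PermTools
import Cfsg.Agent.Lib.SmallGroups4
import Cfsg.Agent.Lib.SharpClosure

/-!
# A simple group of order 720 does not act transitively on ten points
-/

set_option autoImplicit false

namespace Cfsg.Agent.H87Ord

open Subgroup MulAction Cfsg.Agent.Lib.SmallGroups2 Cfsg.Agent.Lib.SmallGroups3 Cfsg.Agent.Lib.Small168
open Cfsg.Agent.Lib.TwoLocal Cfsg.Agent.Lib.TwoLocal2 Cfsg.Agent.Lib.TwoLocal3

theorem index_ge_eight_720 {G : Type*} [Group G] [Finite G] [IsSimpleGroup G] (hG : ¬ IsMulCommutative G)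
    (h : Nat.card G = 720) (K : Subgroup G) (hK : K ≠ ⊤) : 8 ≤ K.index := by
  have hd := Cfsg.Agent.Lib.SmallGroups.two_mul_card_dvd_factorial_index hG K hK
  rw [h] at hd
  by_contra hlt
  have h0 : K.index ≠ 0 := Subgroup.index_ne_zero_of_finite
  have hle : K.index ≤ 7 := by omega
  generalize K.index = i at *
  interval_cases i <;> revert hd <;> decide

theorem card_le_ninety_720 {G : Type*} [Group G] [Finite G] [IsSimpleGroup G] (hG : ¬ IsMulCommutative G)
    (h : Nat.card G = 720) (K : Subgroup G) (hK : K ≠ ⊤) : Nat.card K ≤ 90 := by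
  have h1 := index_ge_eight_720 hG h K hK
  have h2 := Subgroup.card_mul_index K
  rw [h] at h2
  nlinarith

section ten

variable {G : Type*} [Group G] [Finite G] [IsSimpleGroup G] {Ω : Type*} [MulAction G Ω] [Finite Ω]
  [FaithfulSMul G Ω] [MulAction.IsPretransitive G Ω]
variable (hG : ¬ IsMulCommutative G) (h : Nat.card G = 720) (hΩ : Nat.card Ω = 10)

include h hΩ in
theorem card_stabilizer_ten (p : Ω) : Nat.card (stabilizer G p) = 72 := by
  have h1 := Subgroup.card_mul_index (stabilizer G p)
  rw [MulAction.index_stabilizer_of_transitive, hΩ, h] at h1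
  omega

include h hΩ in
theorem smul_ne_of_orderOf_five {r : G} (hr : orderOf r = 5) (p : Ω) : r • p ≠ p := by
  intro h0
  have hm : r ∈ stabilizer G p := h0
  have := Subgroup.orderOf_dvd_natCard _ hm
  rw [card_stabilizer_ten h hΩ, hr] at this
  revert this
  norm_num

include h hΩ in
theorem card_fixedBy_le_two {x t : G} (hx : orderOf x = 5) (ht : t * x * t⁻¹ = x⁻¹) :
    Nat.card (fixedBy Ω t) ≤ 2 := by
  have hcomm : ∀ i : ℤ, t * x ^ i = x ^ (-i) * t := by
    intro i
    have h1 : t * x ^ i * t⁻¹ = x ^ (-i) := by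
      rw [← conj_zpow, ht, inv_zpow, zpow_neg]
    calc t * x ^ i = (t * x ^ i * t⁻¹) * t := by group
      _ = _ := by rw [h1]
  have key : ∀ (a b : Ω), t • a = a → t • b = b → ∀ i j : ℤ, x ^ i • a = x ^ j • b → x ^ i = x ^ j ∧ a = b := by
    intro a b ha hb i j he
    have e2 : x ^ (-i) • a = x ^ (-j) • b := by
      have h1 := congrArg (fun z => t • z) he
      simp only [smul_smul, hcomm, mul_smul, ha, hb] at h1
      exact h1
    have e3 : b = x ^ (i - j) • a := by
      have : x ^ (i - j) • a = x ^ (-j) • (x ^ i • a) := by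
        rw [smul_smul, ← zpow_add]
        congr 2
        ring
      rw [this, he, smul_smul, ← zpow_add]
      simp
    have e4 : b = x ^ (j - i) • a := by
      have : x ^ (j - i) • a = x ^ j • (x ^ (-i) • a) := by
        rw [smul_smul, ← zpow_add]
        congr 2
      rw [this, e2, smul_smul, ← zpow_add]
      simp
    have e5 : x ^ (2 * (i - j)) • a = a := by
      have h1 : x ^ (2 * (i - j)) • a = x ^ (i - j) • (x ^ (i - j) • a) := by
        rw [smul_smul, ← zpow_add]
        congr 2
        ring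
      have h2 : x ^ (i - j) • a = x ^ (j - i) • a := e3.symm.trans e4
      rw [h1, h2, smul_smul, ← zpow_add]
      simp
    have hu : x ^ (2 * (i - j)) = 1 := by
      by_contra hne
      have h5 : (x ^ (2 * (i - j))) ^ 5 = 1 := by
        rw [← zpow_natCast, ← zpow_mul, mul_comm, zpow_mul]
        have : x ^ ((5 : ℕ) : ℤ) = 1 := by
          rw [zpow_natCast, ← hx]
          exact pow_orderOf_eq_one x
        rw [this]
        simp
      haveI : Fact (Nat.Prime 5) := ⟨by norm_num⟩
      have ho := orderOf_eq_prime h5 hne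
      exact smul_ne_of_orderOf_five h hΩ ho a e5
    have hd := orderOf_dvd_iff_zpow_eq_one.2 hu
    rw [hx] at hd
    have hd2 : ((orderOf x : ℕ) : ℤ) ∣ (i - j) := by
      rw [hx]
      push_cast at hd ⊢
      omega
    have h6 : x ^ (i - j) = 1 := orderOf_dvd_iff_zpow_eq_one.1 hd2
    refine ⟨?_, ?_⟩
    · rw [zpow_sub, mul_inv_eq_one] at h6
      exact h6
    · rw [e3, h6, one_smul]
  let F : fixedBy Ω t × zpowers x → Ω := fun q => (q.2 : G) • q.1.1
  have hF : Function.Injective F := by
    rintro ⟨⟨a, ha⟩, ⟨r, hr⟩⟩ ⟨⟨b, hb⟩, ⟨s, hs⟩⟩ he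
    obtain ⟨i, rfl⟩ := Subgroup.mem_zpowers_iff.1 hr
    obtain ⟨j, rfl⟩ := Subgroup.mem_zpowers_iff.1 hs
    obtain ⟨h1, h2⟩ := key a b ha hb i j he
    subst h2
    simp only [Prod.mk.injEq, Subtype.mk.injEq]
    exact ⟨trivial, h1⟩
  have hle := Nat.card_le_card_of_injective F hF
  rw [Nat.card_prod, Nat.card_zpowers, hx, hΩ] at hle
  omega

include hG h hΩ in
/-- The element `y` fixes exactly two points. -/
theorem exists_fixed_pair {x y : G} (hx : orderOf x = 5) (hy : y ^ 4 = 1)
    (ht : y ^ 2 * x * (y ^ 2)⁻¹ = x⁻¹) :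
    ∃ a b : Ω, a ≠ b ∧ (∀ p : Ω, y ^ 2 • p = p ↔ p = a ∨ p = b) ∧ y • a = a ∧ y • b = b := by
  classical
  haveI : Fintype Ω := Fintype.ofFinite Ω
  have hf1 := card_fixedBy_le_two h hΩ hx ht
  have hf2 := card_modEq_fixedBy_four hG (X := Ω) (y ^ 2) (by rw [← pow_mul]; exact hy)
  rw [hΩ] at hf2
  have hf3 : Nat.card (fixedBy Ω (y ^ 2)) = 2 := by
    unfold Nat.ModEq at hf2
    omega
  obtain ⟨⟨a, ha⟩, ⟨b, hb⟩, hne, huniv⟩ := Nat.card_eq_two_iff.1 hf3
  have hab : a ≠ b := fun h0 => hne (Subtype.ext h0)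
  have ha' : y ^ 2 • a = a := ha
  have hb' : y ^ 2 • b = b := hb
  have hfix : ∀ p : Ω, y ^ 2 • p = p ↔ p = a ∨ p = b := by
    intro p
    constructor
    · intro hp
      have : (⟨p, hp⟩ : fixedBy Ω (y ^ 2)) ∈ ({⟨a, ha⟩, ⟨b, hb⟩} : Set (fixedBy Ω (y ^ 2))) := by
        rw [huniv]; trivial
      rcases this with h1 | h1
      · exact Or.inl (congrArg Subtype.val h1)
      · exact Or.inr (congrArg Subtype.val h1)
    · rintro (rfl | rfl)
      · exact ha'
      · exact hb'
  have hinv : ∀ p : Ω, y ^ 2 • p = p → y ^ 2 • (y • p) = y • p := by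
    intro p hp
    rw [smul_smul, ← pow_succ, pow_succ', mul_smul, hp]
  have hex : ∃ p : Ω, y • p = p := by
    by_contra hcon
    push Not at hcon
    have hs := sign_toPermHom_eq_one hG (X := Ω) y
    have hσ4 : (MulAction.toPermHom G Ω y) ^ 4 = 1 := by rw [← map_pow, hy, map_one]
    have hσσ : ∀ p : Ω, MulAction.toPermHom G Ω y (MulAction.toPermHom G Ω y p) = y ^ 2 • p := by
      intro p
      show y • y • p = _
      rw [smul_smul, pow_two]
    have h3 := sign_eq_neg_one_of_ten (MulAction.toPermHom G Ω y)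
      (by rw [← Nat.card_eq_fintype_card, hΩ]) hσ4 (fun p => hcon p) (by
        have hsub : (Finset.univ.filter fun p : Ω => MulAction.toPermHom G Ω y (MulAction.toPermHom G Ω y p) = p) ⊆
            {a, b} := by
          intro p hp
          have h4 := (Finset.mem_filter.1 hp).2
          rw [hσσ] at h4
          simpa using (hfix p).1 h4
        have := Finset.card_le_card hsub
        have h5 : ({a, b} : Finset Ω).card ≤ 2 := Finset.card_le_two
        omega)
    rw [hs] at h3
    exact absurd h3 (by decide)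
  obtain ⟨p, hp⟩ := hex
  have hp2 : y ^ 2 • p = p := by
    rw [pow_two, mul_smul, hp, hp]
  have hother : ∀ u v : Ω, u ≠ v → y ^ 2 • v = v → (∀ q : Ω, y ^ 2 • q = q → q = u ∨ q = v) →
      y • u = u → y • v = v := by
    intro u v huv hv hq hu
    rcases hq _ (hinv v hv) with h1 | h1
    · exfalso
      apply huv
      have h2 : y • u = y • v := by rw [hu, h1]
      exact (smul_left_cancel_iff y).1 h2
    · exact h1
  rcases (hfix p).1 hp2 with rfl | rfl
  · exact ⟨p, b, hab, hfix, hp, hother p b hab hb' (fun q hq => (hfix q).1 hq) hp⟩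
  · exact ⟨a, p, hab, hfix,
      hother p a (Ne.symm hab) ha' (fun q hq => ((hfix q).1 hq).symm) hp, hp⟩

include hG h hΩ in
/-- Two-transitivity and the order of the two-point stabilizer. -/
theorem two_trans_ten {a b : Ω} {y : G} (hab : a ≠ b) (hy : y ^ 4 = 1)
    (hfix : ∀ p : Ω, y ^ 2 • p = p ↔ p = a ∨ p = b) (hya : y • a = a) (hyb : y • b = b) :
    (∀ p q : Ω, p ≠ q → ∃ g : G, g • a = p ∧ g • b = q) ∧
      Nat.card ↥(stabilizer G a ⊓ stabilizer G b) = 8 := by
  classical
  haveI : Fintype Ω := Fintype.ofFinite Ω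
  set H := stabilizer G a with hH
  have hHc : Nat.card H = 72 := card_stabilizer_ten h hΩ a
  have hyH : y ∈ H := hya
  set O := MulAction.orbit H b with hO
  have hbO : b ∈ O := MulAction.mem_orbit_self b
  let O' : Finset Ω := Finset.univ.filter (· ∈ O)
  have hO'c : O'.card = Nat.card O := by
    rw [Nat.card_eq_fintype_card, Fintype.card_subtype]
  have hidx : (stabilizer H b).index = O'.card := by
    rw [MulAction.index_stabilizer, hO'c, Nat.card_coe_set_eq]
  have hdvd : O'.card ∣ 72 := by
    rw [← hidx, ← hHc]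
    exact Subgroup.index_dvd_card _
  -- the orbit avoids `a`
  have hsub : O' ⊆ Finset.univ.erase a := by
    intro p hp
    have hp' : p ∈ O := (Finset.mem_filter.1 hp).2
    refine Finset.mem_erase.2 ⟨?_, Finset.mem_univ _⟩
    rintro rfl
    obtain ⟨g, hg⟩ := hp'
    apply hab
    have hg2 : (g : G) • b = p := hg
    have hg3 : (g : G) • p = p := g.2
    have : (g : G) • p = (g : G) • b := by rw [hg3, hg2]
    exact (smul_left_cancel_iff (g : G)).1 this
  have hle9 : O'.card ≤ 9 := by
    have := Finset.card_le_card hsub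
    rw [Finset.card_erase_of_mem (Finset.mem_univ _), Finset.card_univ, ← Nat.card_eq_fintype_card, hΩ] at this
    omega
  -- four divides the rest of the orbit
  have hinvS : ∀ p : Ω, (y • p ∈ O ∧ y • p ≠ b) ↔ (p ∈ O ∧ p ≠ b) := by
    intro p
    have hstep : ∀ (g : H) (q : Ω), q ∈ O → (g : G) • q ∈ O := by
      rintro g q ⟨k, hk⟩
      exact ⟨g * k, by
        have hk' : k • b = q := hk
        show (g * k) • b = (g : G) • q
        rw [mul_smul, hk']
        rfl⟩
    have h1 : y • p ∈ O ↔ p ∈ O := by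
      constructor
      · intro hp
        have := hstep (⟨y, hyH⟩ : H)⁻¹ _ hp
        simpa using this
      · intro hp
        exact hstep (⟨y, hyH⟩ : H) _ hp
    have h2 : y • p ≠ b ↔ p ≠ b := by
      constructor
      · rintro h3 rfl
        exact h3 hyb
      · intro h3 h4
        apply h3
        have : y • p = y • b := by rw [h4, hyb]
        exact (smul_left_cancel_iff y).1 this
    rw [h1, h2]
  let σ : Equiv.Perm {p : Ω // p ∈ O ∧ p ≠ b} :=
    Equiv.Perm.subtypePerm (MulAction.toPermHom G Ω y) (fun p => hinvS p)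
  have hσ4 : σ ^ 4 = 1 := by
    ext p
    have h1 : (σ ^ 4) p = ⟨y ^ 4 • p.1, by rw [hy, one_smul]; exact p.2⟩ := by
      apply Subtype.ext
      show y • y • y • y • p.1 = y ^ 4 • p.1
      simp only [smul_smul, pow_succ, pow_zero, one_mul, mul_assoc]
    rw [h1]
    simp [hy]
  have hσ2 : ∀ p, σ (σ p) ≠ p := by
    intro p he
    have h1 : y • y • p.1 = p.1 := congrArg Subtype.val he
    have h2 : y ^ 2 • p.1 = p.1 := by rw [pow_two, mul_smul, h1]
    rcases (hfix _).1 h2 with h3 | h3
    · have h4 : p.1 ∈ O' := Finset.mem_filter.2 ⟨Finset.mem_univ _, p.2.1⟩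
      have := Finset.mem_erase.1 (hsub h4)
      exact this.1 h3
    · exact p.2.2 h3
  have h4d := four_dvd_card_of_sq_free σ hσ4 hσ2
  have hcardS : Fintype.card {p : Ω // p ∈ O ∧ p ≠ b} = O'.card - 1 := by
    rw [Fintype.card_subtype, ← Finset.card_erase_of_mem (Finset.mem_filter.2 ⟨Finset.mem_univ _, hbO⟩)]
    congr 1
    ext p
    simp only [Finset.mem_filter, Finset.mem_univ, true_and, Finset.mem_erase, O']
    tauto
  rw [hcardS] at h4d
  have hpos : 0 < O'.card := Finset.card_pos.2 ⟨b, Finset.mem_filter.2 ⟨Finset.mem_univ _, hbO⟩⟩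
  have hl : O'.card = 1 ∨ O'.card = 9 := by
    generalize O'.card = l at *
    interval_cases l <;> first | (left; rfl) | (right; rfl) | (revert h4d; decide) | (revert hdvd; decide)
  rcases hl with hl | hl
  · exfalso
    -- `H` fixes `b`
    have hfixb : ∀ g ∈ H, g • b = b := by
      intro g hg
      have h1 : g • b ∈ O' := by
        refine Finset.mem_filter.2 ⟨Finset.mem_univ _, ?_⟩
        exact ⟨⟨g, hg⟩, rfl⟩
      have h2 : b ∈ O' := Finset.mem_filter.2 ⟨Finset.mem_univ _, hbO⟩
      exact Finset.card_le_one.1 (by omega) _ h1 _ h2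
    have hle : H ≤ stabilizer G b := fun g hg => hfixb g hg
    have heq : H = stabilizer G b :=
      Subgroup.eq_of_le_of_card_ge hle (by rw [card_stabilizer_ten h hΩ b, hHc])
    obtain ⟨g, hg⟩ := MulAction.exists_smul_eq G a b
    have hgN : g ∈ normalizer ((H : Subgroup G) : Set G) := by
      apply mem_normalizer_of_conj_le
      intro u hu
      rw [heq]
      show (g * u * g⁻¹) • b = b
      have hu' : u • a = a := hu
      rw [← hg, smul_smul, mul_assoc, inv_mul_cancel, mul_one, mul_smul, hu']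
    have hNtop : normalizer ((H : Subgroup G) : Set G) ≠ ⊤ := by
      intro htop
      have hn : H.Normal := normalizer_eq_top_iff.1 htop
      rcases hn.eq_bot_or_eq_top with h0 | h0
      · rw [h0, Subgroup.card_bot] at hHc
        omega
      · rw [h0, Subgroup.card_top, h] at hHc
        omega
    have hN90 := card_le_ninety_720 hG h _ hNtop
    have h72 : Nat.card H ∣ Nat.card (normalizer ((H : Subgroup G) : Set G)) :=
      Subgroup.card_dvd_of_le le_normalizer
    rw [hHc] at h72
    obtain ⟨k, hk⟩ := h72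
    have hk1 : k = 1 := by
      have h0 : 0 < Nat.card (normalizer ((H : Subgroup G) : Set G)) := Nat.card_pos
      have : k ≠ 0 := by
        rintro rfl
        omega
      omega
    have hNH : H = normalizer ((H : Subgroup G) : Set G) :=
      Subgroup.eq_of_le_of_card_ge le_normalizer (by rw [hk, hk1, hHc])
    rw [← hNH] at hgN
    have hga : g • a = a := hgN
    exact hab (hga.symm.trans hg)
  · refine ⟨?_, ?_⟩
    · have hEq : O' = Finset.univ.erase a := by
        apply Finset.eq_of_subset_of_card_le hsub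
        rw [Finset.card_erase_of_mem (Finset.mem_univ _), Finset.card_univ, ← Nat.card_eq_fintype_card, hΩ, hl]
      intro p q hpq
      obtain ⟨g₁, hg₁⟩ := MulAction.exists_smul_eq G a p
      have hq1 : g₁⁻¹ • q ≠ a := by
        intro h0
        apply hpq
        rw [← hg₁, ← h0, smul_smul, mul_inv_cancel, one_smul]
      have hq2 : g₁⁻¹ • q ∈ O' := by
        rw [hEq]
        exact Finset.mem_erase.2 ⟨hq1, Finset.mem_univ _⟩
      obtain ⟨k, hk⟩ := (Finset.mem_filter.1 hq2).2
      have hk' : (k : G) • b = g₁⁻¹ • q := hk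
      have hka : (k : G) • a = a := k.2
      refine ⟨g₁ * k, ?_, ?_⟩
      · rw [mul_smul, hka, hg₁]
      · rw [mul_smul, hk', smul_smul, mul_inv_cancel, one_smul]
    · have h1 := Subgroup.card_mul_index (stabilizer H b)
      rw [hidx, hl, hHc] at h1
      have h2 : stabilizer H b = (stabilizer G b).subgroupOf H := by
        ext u
        rfl
      rw [inf_comm, ← card_subgroupOf_eq_inf, ← h2]
      omega

include hG h hΩ in
/-- Every involution fixes exactly two points, if no involution centralizes an element of order five. -/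
theorem card_fixedBy_involution_ten {a b : Ω} {y : G} (hab : a ≠ b) (hy : y ^ 4 = 1) (hy2 : y ^ 2 ≠ 1)
    (hfix : ∀ p : Ω, y ^ 2 • p = p ↔ p = a ∨ p = b) (hya : y • a = a) (hyb : y • b = b)
    (hno10 : ∀ w z : G, orderOf z = 5 → w ^ 2 = 1 → w * z = z * w → w = 1)
    {w : G} (hw : w ^ 2 = 1) (hw1 : w ≠ 1) : Nat.card (fixedBy Ω w) = 2 := by
  classical
  haveI : Fintype Ω := Fintype.ofFinite Ω
  haveI : Fintype G := Fintype.ofFinite G
  obtain ⟨htr, hD⟩ := two_trans_ten hG h hΩ hab hy hfix hya hyb
  let fx : G → Finset Ω := fun g => Finset.univ.filter fun p : Ω => g • p = p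
  have hfx : ∀ g : G, Nat.card (fixedBy Ω g) = (fx g).card := by
    intro g
    rw [Nat.card_eq_fintype_card, Fintype.card_subtype]
    rfl
  have huniv : (Finset.univ : Finset Ω).card = 10 := by
    rw [Finset.card_univ, ← Nat.card_eq_fintype_card, hΩ]
  have hf4 := card_modEq_fixedBy_four hG (X := Ω) w hw
  rw [hΩ, hfx] at hf4
  have hfle : (fx w).card ≤ 10 := by
    rw [← huniv]
    exact Finset.card_filter_le _ _
  have hf10 : (fx w).card ≠ 10 := by
    intro h10
    apply hw1
    have h1 : fx w = Finset.univ := by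
      apply Finset.eq_of_subset_of_card_le (Finset.subset_univ _)
      rw [huniv, h10]
    apply FaithfulSMul.eq_of_smul_eq_smul (α := Ω)
    intro p
    have : p ∈ fx w := by rw [h1]; exact Finset.mem_univ p
    rw [one_smul]
    exact (Finset.mem_filter.1 this).2
  rw [hfx]
  by_contra hne
  have hf6 : (fx w).card = 6 := by
    unfold Nat.ModEq at hf4
    omega
  let X : Finset G := Finset.univ.filter fun g => IsConj w g
  have hXc : X.card = Nat.card {g : G // IsConj w g} := by
    rw [Nat.card_eq_fintype_card, Fintype.card_subtype]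
  have hXC := Cfsg.Agent.Lib.SmallGroups4.card_isConj_mul_card_centralizer w
  rw [h, ← hXc] at hXC
  have hCle := card_le_ninety_720 hG h _ (centralizer_singleton_ne_top hG hw1)
  let r : G → Ω × Ω → Prop := fun g pq => g • pq.1 = pq.1 ∧ g • pq.2 = pq.2
  let P2 : Finset (Ω × Ω) := (Finset.univ : Finset Ω).offDiag
  have hP2 : P2.card = 90 := by
    rw [Finset.offDiag_card, huniv]
  let c : ℕ := (X.bipartiteBelow r (a, b)).card
  have hm : ∀ g ∈ X, (P2.bipartiteAbove r g).card = 30 := by
    intro g hg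
    have hg' : IsConj w g := (Finset.mem_filter.1 hg).2
    have hcg : (fx g).card = 6 := by
      rw [← hfx, ← card_fixedBy_isConj hg', hfx, hf6]
    have : P2.bipartiteAbove r g = (fx g).offDiag := by
      ext ⟨p, q⟩
      simp [Finset.bipartiteAbove, P2, r, fx, Finset.mem_offDiag]
      tauto
    rw [this, Finset.offDiag_card, hcg]
  have hn : ∀ pq ∈ P2, (X.bipartiteBelow r pq).card = c := by
    rintro ⟨p, q⟩ hpq
    have hpq' : p ≠ q := (Finset.mem_offDiag.1 hpq).2.2
    obtain ⟨g, hga, hgb⟩ := htr p q hpq'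
    symm
    apply Finset.card_bij (fun u _ => g * u * g⁻¹)
    · intro u hu
      obtain ⟨hu1, hu2⟩ := Finset.mem_filter.1 hu
      have hu3 : IsConj w u := (Finset.mem_filter.1 hu1).2
      refine Finset.mem_filter.2 ⟨Finset.mem_filter.2 ⟨Finset.mem_univ _, ?_⟩, ?_, ?_⟩
      · exact hu3.trans (isConj_iff.2 ⟨g, rfl⟩)
      · show (g * u * g⁻¹) • p = p
        rw [← hga, smul_smul, mul_assoc, inv_mul_cancel, mul_one, mul_smul, hu2.1]
      · show (g * u * g⁻¹) • q = q
        rw [← hgb, smul_smul, mul_assoc, inv_mul_cancel, mul_one, mul_smul, hu2.2]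
    · intro u _ v _ huv
      exact mul_left_cancel (mul_right_cancel huv)
    · intro u hu
      obtain ⟨hu1, hu2⟩ := Finset.mem_filter.1 hu
      have hu3 : IsConj w u := (Finset.mem_filter.1 hu1).2
      refine ⟨g⁻¹ * u * g, ?_, by group⟩
      refine Finset.mem_filter.2 ⟨Finset.mem_filter.2 ⟨Finset.mem_univ _, ?_⟩, ?_, ?_⟩
      · refine hu3.trans (isConj_iff.2 ⟨g⁻¹, ?_⟩)
        group
      · show (g⁻¹ * u * g) • a = a
        have h1 : u • p = p := hu2.1
        rw [mul_smul, hga, mul_smul, h1, ← hga, smul_smul, inv_mul_cancel, one_smul]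
      · show (g⁻¹ * u * g) • b = b
        have h1 : u • q = q := hu2.2
        rw [mul_smul, hgb, mul_smul, h1, ← hgb, smul_smul, inv_mul_cancel, one_smul]
  have hcount := Finset.card_mul_eq_card_mul r hm hn
  rw [hP2] at hcount
  -- bound `c`
  have hcle : c ≤ 4 := by
    let D' : Finset G := Finset.univ.filter fun u => u ∈ stabilizer G a ⊓ stabilizer G b
    have hD' : D'.card = 8 := by
      rw [← hD, Nat.card_eq_fintype_card, Fintype.card_subtype]
    let A : Finset G := {1, y, y ^ 2, y ^ 3}
    have hy1 : y ≠ 1 := by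
      rintro rfl
      simp at hy2
    have hy3 : y ^ 3 ≠ 1 := by
      intro h0
      apply hy1
      have : y ^ 4 = y ^ 3 * y := pow_succ y 3
      rw [hy, h0, one_mul] at this
      exact this.symm
    have h12 : y ≠ y ^ 2 := by
      intro h0
      apply hy1
      have : y ^ 2 = y * y := pow_two y
      rw [← h0] at this
      exact (mul_eq_left.1 this.symm)
    have h13 : y ≠ y ^ 3 := by
      intro h0
      apply hy2
      have : y ^ 3 = y ^ 2 * y := pow_succ y 2
      rw [← h0] at this
      exact mul_eq_right.1 this.symm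
    have h23 : y ^ 2 ≠ y ^ 3 := by
      intro h0
      apply hy1
      have : y ^ 3 = y ^ 2 * y := pow_succ y 2
      rw [← h0] at this
      exact mul_eq_left.1 this.symm
    have hA : A.card = 4 := by
      rw [Finset.card_insert_of_notMem, Finset.card_insert_of_notMem, Finset.card_insert_of_notMem,
        Finset.card_singleton]
      · simpa using h23
      · simp only [Finset.mem_insert, Finset.mem_singleton, not_or]
        exact ⟨h12, h13⟩
      · simp only [Finset.mem_insert, Finset.mem_singleton, not_or]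
        exact ⟨hy1.symm, hy2.symm, hy3.symm⟩
    have hya2 : ∀ n : ℕ, y ^ n • a = a := fun n => by
      have : y ^ n ∈ stabilizer G a := Subgroup.pow_mem _ hya n
      exact this
    have hyb2 : ∀ n : ℕ, y ^ n • b = b := fun n => by
      have : y ^ n ∈ stabilizer G b := Subgroup.pow_mem _ hyb n
      exact this
    have hAsub : A ⊆ D' := by
      intro u hu
      refine Finset.mem_filter.2 ⟨Finset.mem_univ _, Subgroup.mem_inf.2 ⟨?_, ?_⟩⟩
      · simp only [A, Finset.mem_insert, Finset.mem_singleton] at hu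
        rcases hu with rfl | rfl | rfl | rfl
        · exact one_mem _
        · exact hya
        · exact hya2 2
        · exact hya2 3
      · simp only [A, Finset.mem_insert, Finset.mem_singleton] at hu
        rcases hu with rfl | rfl | rfl | rfl
        · exact one_mem _
        · exact hyb
        · exact hyb2 2
        · exact hyb2 3
    have hsub : X.bipartiteBelow r (a, b) ⊆ D' \ A := by
      intro u hu
      obtain ⟨hu1, hu2⟩ := Finset.mem_filter.1 hu
      have hu3 : IsConj w u := (Finset.mem_filter.1 hu1).2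
      have hu4 : u ^ 2 = 1 := by
        obtain ⟨k, rfl⟩ := isConj_iff.1 hu3
        rw [conj_pow, hw]
        group
      have hu5 : (fx u).card = 6 := by
        rw [← hfx, ← card_fixedBy_isConj hu3, hfx, hf6]
      refine Finset.mem_sdiff.2 ⟨Finset.mem_filter.2 ⟨Finset.mem_univ _, Subgroup.mem_inf.2 ⟨hu2.1, hu2.2⟩⟩, ?_⟩
      simp only [A, Finset.mem_insert, Finset.mem_singleton, not_or]
      refine ⟨?_, ?_, ?_, ?_⟩
      · rintro rfl
        have : (fx 1).card = 10 := by
          rw [← huniv]
          congr 1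
          ext p
          simp [fx]
        omega
      · rintro rfl
        exact hy2 hu4
      · rintro rfl
        have hsubt : fx (y ^ 2) ⊆ {a, b} := by
          intro p hp
          have := (hfix p).1 (Finset.mem_filter.1 hp).2
          simpa using this
        have h5 := Finset.card_le_card hsubt
        have h6 : ({a, b} : Finset Ω).card ≤ 2 := Finset.card_le_two
        omega
      · rintro rfl
        apply hy2
        have : (y ^ 3) ^ 2 = y ^ 4 * y ^ 2 := by
          rw [← pow_mul, ← pow_add]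
        rw [hu4, hy, one_mul] at this
        exact this.symm
    have h7 := Finset.card_le_card hsub
    rw [Finset.card_sdiff_of_subset hAsub, hD', hA] at h7
    exact h7
  -- the numerics
  have hXge : 8 ≤ X.card := by
    by_contra hlt
    have h1 : X.card ≤ 7 := by omega
    have := Nat.mul_le_mul h1 hCle
    omega
  have h5 : 5 ∣ Nat.card (centralizer ({w} : Set G)) := by
    have hXval : X.card = 9 ∨ X.card = 12 := by omega
    rcases hXval with h1 | h1
    · rw [h1] at hXC
      omega
    · rw [h1] at hXC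
      omega
  haveI : Fact (Nat.Prime 5) := ⟨by norm_num⟩
  obtain ⟨z, hz⟩ := exists_prime_orderOf_dvd_card' (G := centralizer ({w} : Set G)) 5 h5
  obtain ⟨z, hzC⟩ := z
  have hoz : orderOf z = 5 := by rw [← hz]; exact (Subgroup.orderOf_mk z hzC).symm
  exact hw1 (hno10 w z hoz hw (Subgroup.mem_centralizer_singleton_iff.1 hzC).symm)

include hG h hΩ in
/-- The main theorem on ten points. -/
theorem false_of_ten {x y : G} (hx : orderOf x = 5) (hy : y ^ 4 = 1)
    (ht : y ^ 2 * x * (y ^ 2)⁻¹ = x⁻¹)
    (hno10 : ∀ w z : G, orderOf z = 5 → w ^ 2 = 1 → w * z = z * w → w = 1) : False := by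
  classical
  haveI : Fintype Ω := Fintype.ofFinite Ω
  haveI : Fintype G := Fintype.ofFinite G
  have hy2 : y ^ 2 ≠ 1 := by
    intro h0
    rw [h0] at ht
    simp only [one_mul, inv_one, mul_one] at ht
    have h2 : x ^ 2 = 1 := by
      rw [pow_two]
      nth_rewrite 1 [ht]
      exact inv_mul_cancel x
    have := orderOf_dvd_of_pow_eq_one h2
    rw [hx] at this
    revert this
    norm_num
  obtain ⟨a, b, hab, hfix, hya, hyb⟩ := exists_fixed_pair (Ω := Ω) hG h hΩ hx hy ht
  obtain ⟨htr, hD⟩ := two_trans_ten hG h hΩ hab hy hfix hya hyb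
  have hinv := @card_fixedBy_involution_ten G _ _ _ Ω _ _ _ _ hG h hΩ a b y hab hy hy2 hfix hya hyb hno10
  have huniq : ∀ (g : G) (a' b' c' : Ω), a' ≠ b' → b' ≠ c' → a' ≠ c' → g • a' = a' → g • b' = b' →
      g • c' = c' → g = 1 := by
    intro g a' b' c' h1 h2 h3 ha hb hc
    by_contra hg
    -- the order divides eight
    have h8 : g ^ 8 = 1 := by
      obtain ⟨k, hka, hkb⟩ := htr a' b' h1
      have hm : k⁻¹ * g * k ∈ stabilizer G a ⊓ stabilizer G b := by
        refine Subgroup.mem_inf.2 ⟨?_, ?_⟩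
        · show (k⁻¹ * g * k) • a = a
          rw [mul_smul, hka, mul_smul, ha, ← hka, smul_smul, inv_mul_cancel, one_smul]
        · show (k⁻¹ * g * k) • b = b
          rw [mul_smul, hkb, mul_smul, hb, ← hkb, smul_smul, inv_mul_cancel, one_smul]
      have hd := Subgroup.orderOf_dvd_natCard _ hm
      rw [hD] at hd
      have h9 : (k⁻¹ * g * k) ^ 8 = 1 := orderOf_dvd_iff_pow_eq_one.1 hd
      have h10 : (k⁻¹ * g * k) ^ 8 = k⁻¹ * g ^ 8 * k := by
        have := conj_pow (a := k⁻¹) (b := g) (i := 8)
        simpa using this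
      rw [h10] at h9
      have : g ^ 8 = k * (k⁻¹ * g ^ 8 * k) * k⁻¹ := by group
      rw [this, h9]
      group
    -- the involution
    have hex : ∃ n : ℕ, (g ^ n) ^ 2 = 1 ∧ g ^ n ≠ 1 := by
      by_cases h1' : g ^ 2 = 1
      · exact ⟨1, by simpa using h1', by simpa using hg⟩
      · by_cases h2' : g ^ 4 = 1
        · exact ⟨2, by rw [← pow_mul]; exact h2', h1'⟩
        · exact ⟨4, by rw [← pow_mul]; exact h8, h2'⟩
    obtain ⟨n, hn1, hn2⟩ := hex
    have hc2 := hinv hn1 hn2
    have hpw : ∀ p : Ω, g • p = p → g ^ n • p = p := fun p hp => by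
      have : g ^ n ∈ stabilizer G p := Subgroup.pow_mem _ hp n
      exact this
    have hcard : Nat.card (fixedBy Ω (g ^ n)) = (Finset.univ.filter fun p : Ω => g ^ n • p = p).card := by
      rw [Nat.card_eq_fintype_card, Fintype.card_subtype]
      rfl
    rw [hcard] at hc2
    have hsub : ({a', b', c'} : Finset Ω) ⊆ Finset.univ.filter fun p : Ω => g ^ n • p = p := by
      intro p hp
      simp only [Finset.mem_insert, Finset.mem_singleton] at hp
      refine Finset.mem_filter.2 ⟨Finset.mem_univ _, ?_⟩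
      rcases hp with rfl | rfl | rfl
      · exact hpw _ ha
      · exact hpw _ hb
      · exact hpw _ hc
    have h3c : ({a', b', c'} : Finset Ω).card = 3 := Finset.card_eq_three.2 ⟨a', b', c', h1, h3, h2, rfl⟩
    have := Finset.card_le_card hsub
    omega
  have htrans : ∀ {a₁ b₁ c₁ a₂ b₂ c₂ : Ω}, a₁ ≠ b₁ → a₁ ≠ c₁ → b₁ ≠ c₁ → a₂ ≠ b₂ → a₂ ≠ c₂ → b₂ ≠ c₂ →
      ∃ g : G, g • a₁ = a₂ ∧ g • b₁ = b₂ ∧ g • c₁ = c₂ := by
    intro a₁ b₁ c₁ a₂ b₂ c₂ h1 h2 h3 h4 h5 h6
    have hinjv : ∀ u v w : Ω, u ≠ v → u ≠ w → v ≠ w → Function.Injective ![u, v, w] := by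
      intro u v w huv huw hvw i j hij
      fin_cases i <;> fin_cases j <;> simp_all
    let e₁ : Fin 3 ↪ Ω := ⟨![a₁, b₁, c₁], hinjv _ _ _ h1 h2 h3⟩
    let e₂ : Fin 3 ↪ Ω := ⟨![a₂, b₂, c₂], hinjv _ _ _ h4 h5 h6⟩
    let φ : G → (Fin 3 ↪ Ω) := fun g => e₁.trans (MulAction.toPerm g).toEmbedding
    have hφ : Function.Injective φ := by
      intro g g' hgg
      have h0 : ∀ i, g • e₁ i = g' • e₁ i := fun i => congrArg (fun f : Fin 3 ↪ Ω => f i) hgg
      have h7 := huniq (g⁻¹ * g') a₁ b₁ c₁ h1 h3 h2
        (by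
          have h01 : g' • a₁ = g • a₁ := (h0 0).symm
          rw [mul_smul, h01, smul_smul, inv_mul_cancel, one_smul])
        (by
          have h01 : g' • b₁ = g • b₁ := (h0 1).symm
          rw [mul_smul, h01, smul_smul, inv_mul_cancel, one_smul])
        (by
          have h01 : g' • c₁ = g • c₁ := (h0 2).symm
          rw [mul_smul, h01, smul_smul, inv_mul_cancel, one_smul])
      exact (inv_mul_eq_one.1 h7)
    have hcardE : Nat.card (Fin 3 ↪ Ω) = 720 := by
      rw [Nat.card_eq_fintype_card, Fintype.card_embedding_eq, ← Nat.card_eq_fintype_card (α := Ω), hΩ]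
      rfl
    have hbij : Function.Bijective φ :=
      (Nat.bijective_iff_injective_and_card φ).2 ⟨hφ, by rw [h, hcardE]⟩
    obtain ⟨g, hg⟩ := hbij.2 e₂
    have h0 : ∀ i, g • e₁ i = e₂ i := fun i => congrArg (fun f : Fin 3 ↪ Ω => f i) hg
    exact ⟨g, h0 0, h0 1, h0 2⟩
  exact Cfsg.Agent.Lib.SharpClosure.false_of_simple (G := G) (Ω := Ω) ⟨htrans, huniq⟩
    (by rw [hΩ]; decide) (by rw [hΩ]; norm_num)

end ten

end Cfsg.Agent.H87Ord
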