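import Mathlib
import Cfsg.Agent.H87Ord.Ten
import Cfsg.Agent.H87Ord.Sweep

/-!
# No simple group of order 720
-/

set_option autoImplicit false

namespace Cfsg.Agent.H87Ord

open Subgroup MulAction Cfsg.Agent.Lib.SmallGroups2 Cfsg.Agent.Lib.SmallGroups3 Cfsg.Agent.Lib.Small168
open Cfsg.Agent.Lib.TwoLocal Cfsg.Agent.Lib.TwoLocal2 Cfsg.Agent.Lib.TwoLocal3

/-- The group `A` normalizes the image in `G` of a normal subgroup of `A`. -/
theorem le_normalizer_map_of_normal {G : Type*} [Group G] [Finite G] {A : Subgroup G} {K : Subgroup A} (hK : K.Normal) :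
    A ≤ normalizer ((K.map A.subtype : Subgroup G) : Set G) := by
  intro a ha
  apply mem_normalizer_of_conj_le
  intro y hy
  obtain ⟨k, hk, rfl⟩ := hy
  refine ⟨⟨a, ha⟩ * k * (⟨a, ha⟩ : A)⁻¹, hK.conj_mem k hk ⟨a, ha⟩, ?_⟩
  simp

section o720

variable {G : Type*} [Group G] [Finite G] [IsSimpleGroup G]
variable (hG : ¬ IsMulCommutative G) (h : Nat.card G = 720)

include hG h

theorem card_sylow5_720 [Fact (Nat.Prime 5)] : Nat.card (Sylow 5 G) = 36 := by
  have h5 : Nat.card G = 5 * 144 := by rw [h]
  have hm : ¬ 5 ∣ 144 := by norm_num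
  have hmem := card_sylow_mem_candidates hG h5 hm
  have hc : sylowCandidates 5 144 = {6, 36} := by decide +kernel
  rw [hc] at hmem
  simp only [Finset.mem_insert, Finset.mem_singleton] at hmem
  rcases hmem with hn | hn
  · have := two_mul_card_dvd_factorial_card_sylow hG (p := 5) (by rw [h]; norm_num)
    rw [hn, h] at this
    exact absurd this (by decide)
  · exact hn

theorem card_P5_720 [Fact (Nat.Prime 5)] (P : Sylow 5 G) : Nat.card (P : Subgroup G) = 5 := by
  have h5 : Nat.card G = 5 ^ 1 * 144 := by rw [h]; norm_num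
  rw [sylow_card_of_card_eq (a := 1) (m := 144) h5 (by norm_num) P, pow_one]

theorem card_N5_720 [Fact (Nat.Prime 5)] (P : Sylow 5 G) :
    Nat.card (normalizer ((P : Subgroup G) : Set G)) = 20 := by
  have h1 := card_normalizer_mul_card_sylow P
  rw [h, card_sylow5_720 hG h] at h1
  omega

theorem card_C5_720 [Fact (Nat.Prime 5)] (P : Sylow 5 G) :
    Nat.card (centralizer ((P : Subgroup G) : Set G)) = 5 := by
  have hP := card_P5_720 hG h P
  have hpG : 5 ∣ Nat.card G := by rw [h]; norm_num
  have hN := card_N5_720 hG h P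
  obtain ⟨e, he1, he2⟩ := exists_relIndex P hP
  rw [hN] at he2
  have he3 : e ≠ 1 := by
    rintro rfl
    apply normalizer_eq_centralizer_false hG hpG P
    rw [hN]
    omega
  have he4 : e ∈ Nat.divisors 4 := Nat.mem_divisors.2 ⟨he1, by norm_num⟩
  have he5 : ∀ e ∈ Nat.divisors 4, e ≠ 1 → e = 2 ∨ e = 4 := by decide +kernel
  rcases he5 e he4 he3 with rfl | rfl
  · exfalso
    have hC : Nat.card (centralizer ((P : Subgroup G) : Set G)) = 2 * 5 := by omega
    obtain ⟨f, f1, f2, f3, f4⟩ := involution_fix_data hG (by norm_num) hpG P hP hC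
    rw [card_sylow5_720 hG h] at f2 f3 f4
    rw [hN, h] at f4
    have : f = 16 := by omega
    subst this
    have := f4 (by norm_num)
    revert this
    decide
  · omega

/-- An element commuting with an element of order five has order dividing five. -/
theorem orderOf_dvd_five_720 {w z : G} (hz : orderOf z = 5) (hwz : w * z = z * w) : orderOf w ∣ 5 := by
  haveI : Fact (Nat.Prime 5) := ⟨by norm_num⟩
  obtain ⟨Q, hQ⟩ := exists_sylow_mem_of_orderOf hz
  have hQc := card_P5_720 hG h Q
  have hz1 : z ≠ 1 := by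
    rintro rfl
    rw [orderOf_one] at hz
    omega
  have hgen := zpowers_eq_of_mem_of_ne_one (by norm_num : Nat.Prime 5) hQc hQ hz1
  have hwC : w ∈ centralizer ((Q : Subgroup G) : Set G) := by
    rw [Subgroup.mem_centralizer_iff]
    intro u hu
    rw [SetLike.mem_coe, ← hgen] at hu
    obtain ⟨k, rfl⟩ := Subgroup.mem_zpowers_iff.1 hu
    exact (Commute.zpow_left (Commute.symm hwz) k).eq
  have := Subgroup.orderOf_dvd_natCard _ hwC
  rwa [card_C5_720 hG h Q] at this

theorem no10_720 (w z : G) (hz : orderOf z = 5) (hw : w ^ 2 = 1) (hwz : w * z = z * w) : w = 1 := by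
  have h1 := orderOf_dvd_five_720 hG h hz hwz
  have h2 := orderOf_dvd_of_pow_eq_one hw
  have h3 : orderOf w ∣ Nat.gcd 5 2 := Nat.dvd_gcd h1 h2
  have h4 : orderOf w = 1 := by
    rw [show Nat.gcd 5 2 = 1 by norm_num] at h3
    exact Nat.dvd_one.1 h3
  exact orderOf_eq_one_iff.1 h4

/-- Iterated conjugation. -/
theorem conj_pow_iter_720 {s x : G} {k : ℕ} (hs : s * x * s⁻¹ = x ^ k) (n : ℕ) :
    s ^ n * x * (s ^ n)⁻¹ = x ^ (k ^ n) := by
  induction n with
  | zero => simp
  | succ n ih =>
    have h1 : s ^ (n + 1) * x * (s ^ (n + 1))⁻¹ = s ^ n * (s * x * s⁻¹) * (s ^ n)⁻¹ := by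
      rw [pow_succ]
      group
    rw [h1, hs, ← conj_pow, ih, ← pow_mul, pow_succ]

theorem exists_xy_720 : ∃ x y : G, orderOf x = 5 ∧ y ^ 4 = 1 ∧ y ^ 2 * x * (y ^ 2)⁻¹ = x⁻¹ := by
  classical
  haveI : Fintype G := Fintype.ofFinite G
  haveI : Fact (Nat.Prime 5) := ⟨by norm_num⟩
  obtain ⟨P⟩ : Nonempty (Sylow 5 G) := inferInstance
  have hP := card_P5_720 hG h P
  have hN := card_N5_720 hG h P
  have hC := card_C5_720 hG h P
  obtain ⟨x', hx'⟩ := exists_prime_orderOf_dvd_card' (G := (P : Subgroup G)) 5 (by rw [hP])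
  obtain ⟨x, hxP⟩ := x'
  have hx : orderOf x = 5 := by rw [← hx']; exact (Subgroup.orderOf_mk x hxP).symm
  have hx1 : x ≠ 1 := by
    rintro rfl
    rw [orderOf_one] at hx
    omega
  have hx5 : x ^ 5 = 1 := by rw [← hx]; exact pow_orderOf_eq_one x
  have hgen := zpowers_eq_of_mem_of_ne_one (by norm_num : Nat.Prime 5) hP hxP hx1
  have hCx : centralizer ({x} : Set G) = centralizer ((P : Subgroup G) : Set G) := by
    ext u
    rw [Subgroup.mem_centralizer_singleton_iff, Subgroup.mem_centralizer_iff]
    constructor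
    · intro hu v hv
      rw [SetLike.mem_coe, ← hgen] at hv
      obtain ⟨k, rfl⟩ := Subgroup.mem_zpowers_iff.1 hv
      exact (Commute.zpow_left (Commute.symm hu) k).eq
    · intro hu
      exact (hu x hxP).symm
  have hCx5 : Nat.card (centralizer ({x} : Set G)) = 5 := by rw [hCx, hC]
  -- an element acting with multiplier of order four
  have hex : ∃ s ∈ normalizer ((P : Subgroup G) : Set G), s * x * s⁻¹ ≠ x ∧ s * x * s⁻¹ ≠ x⁻¹ := by
    by_contra hcon
    push Not at hcon
    let Nf : Finset G := Finset.univ.filter fun u => u ∈ normalizer ((P : Subgroup G) : Set G)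
    let A : Finset G := Finset.univ.filter fun u => u * x * u⁻¹ = x
    let B : Finset G := Finset.univ.filter fun u => u * x * u⁻¹ = x⁻¹
    have hNf : Nf.card = 20 := by
      rw [← hN, Nat.card_eq_fintype_card, Fintype.card_subtype]
    have hA : A.card = 5 := by
      rw [← hCx5, Nat.card_eq_fintype_card, Fintype.card_subtype]
      congr 1
      ext u
      simp only [A, Finset.mem_filter, Finset.mem_univ, true_and, Subgroup.mem_centralizer_singleton_iff]
      rw [mul_inv_eq_iff_eq_mul]
    have hB : B.card ≤ 5 := by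
      by_cases hne : B.Nonempty
      · obtain ⟨s₀, hs₀⟩ := hne
        have hs₀' : s₀ * x * s₀⁻¹ = x⁻¹ := (Finset.mem_filter.1 hs₀).2
        rw [← hA]
        apply Finset.card_le_card_of_injOn (fun u => s₀⁻¹ * u)
        · intro u hu
          have hu' : u * x * u⁻¹ = x⁻¹ := (Finset.mem_filter.1 hu).2
          refine Finset.mem_coe.2 (Finset.mem_filter.2 ⟨Finset.mem_univ _, ?_⟩)
          have h1 : s₀⁻¹ * u * x * (s₀⁻¹ * u)⁻¹ = s₀⁻¹ * (u * x * u⁻¹) * s₀ := by group
          rw [h1, hu', ← hs₀']
          group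
        · intro u _ v _ huv
          exact mul_left_cancel huv
      · rw [Finset.not_nonempty_iff_eq_empty] at hne
        rw [hne]
        simp
    have hsub : Nf ⊆ A ∪ B := by
      intro u hu
      have hu' : u ∈ normalizer ((P : Subgroup G) : Set G) := (Finset.mem_filter.1 hu).2
      by_cases h1 : u * x * u⁻¹ = x
      · exact Finset.mem_union_left _ (Finset.mem_filter.2 ⟨Finset.mem_univ _, h1⟩)
      · exact Finset.mem_union_right _ (Finset.mem_filter.2 ⟨Finset.mem_univ _, hcon u hu' h1⟩)
    have h1 := Finset.card_le_card hsub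
    have h2 := Finset.card_union_le A B
    omega
  obtain ⟨s, hsN, hs1, hs2⟩ := hex
  -- the conjugate is a power
  have hsP : s * x * s⁻¹ ∈ (P : Subgroup G) := (Subgroup.mem_normalizer_iff.1 hsN x).1 hxP
  rw [← hgen, mem_zpowers_iff_mem_range_orderOf, hx, Finset.mem_image] at hsP
  obtain ⟨k, hk, hk'⟩ := hsP
  have hk5 : k < 5 := Finset.mem_range.1 hk
  have hkcases : k = 2 ∨ k = 3 := by
    have hk0 : k ≠ 0 := by
      rintro rfl
      apply hx1
      have h1 : s * x * s⁻¹ = 1 := by rw [← hk', pow_zero]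
      have h2 : x = s⁻¹ * (s * x * s⁻¹) * s := by group
      rw [h2, h1]
      group
    have hk1 : k ≠ 1 := by
      rintro rfl
      apply hs1
      rw [← hk', pow_one]
    have hk4 : k ≠ 4 := by
      rintro rfl
      apply hs2
      rw [← hk']
      exact eq_inv_of_mul_eq_one_left (by rw [← pow_succ]; exact hx5)
    omega
  have hsk : s * x * s⁻¹ = x ^ k := hk'.symm
  have hpow : ∀ n : ℕ, s ^ n * x * (s ^ n)⁻¹ = x ^ (k ^ n % 5) := by
    intro n
    rw [conj_pow_iter_720 hG h hsk n]
    exact pow_eq_pow_mod _ hx5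
  refine ⟨x, s ^ 5, hx, ?_, ?_⟩
  · -- the fourth power of `s` lies in the centralizer
    have h4 : s ^ 4 * x * (s ^ 4)⁻¹ = x := by
      rw [hpow 4]
      rcases hkcases with rfl | rfl <;> norm_num
    have hm : s ^ 4 ∈ centralizer ({x} : Set G) := by
      rw [Subgroup.mem_centralizer_singleton_iff]
      exact mul_inv_eq_iff_eq_mul.1 h4
    have hd := Subgroup.orderOf_dvd_natCard _ hm
    rw [hCx5] at hd
    have := orderOf_dvd_iff_pow_eq_one.1 hd
    rw [← pow_mul] at this
    rw [← pow_mul]
    rw [show 5 * 4 = 4 * 5 from rfl]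
    exact this
  · rw [← pow_mul, hpow (5 * 2)]
    rcases hkcases with rfl | rfl
    · norm_num
      exact eq_inv_of_mul_eq_one_left (by rw [← pow_succ]; exact hx5)
    · norm_num
      exact eq_inv_of_mul_eq_one_left (by rw [← pow_succ]; exact hx5)

set_option maxHeartbeats 1000000 in
theorem exists_subgroup_72 : ∃ M : Subgroup G, Nat.card M = 72 := by
  haveI : Fact (Nat.Prime 3) := ⟨by norm_num⟩
  haveI : Fact (Nat.Prime 5) := ⟨by norm_num⟩
  haveI : Fact (Nat.Prime 2) := ⟨by norm_num⟩
  have h3 : Nat.card G = 3 ^ 2 * 80 := by rw [h]; norm_num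
  have hd := card_sylow_dvd h3 (by norm_num)
  have hmod := card_sylow_mod (G := G) (p := 3)
  have hne1 := card_sylow_ne_one hG (p := 3) (by rw [h]; norm_num)
  have hemb := two_mul_card_dvd_factorial_card_sylow hG (p := 3) (by rw [h]; norm_num)
  rw [h] at hemb
  obtain ⟨P₀⟩ : Nonempty (Sylow 3 G) := inferInstance
  have hPc : ∀ P : Sylow 3 G, Nat.card (P : Subgroup G) = 3 ^ 2 :=
    fun P => sylow_card_of_card_eq (a := 2) (m := 80) h3 (by norm_num) P
  have hN := card_normalizer_mul_card_sylow P₀
  rw [h] at hN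
  have hmem : Nat.card (Sylow 3 G) ∈ Nat.divisors 80 := Nat.mem_divisors.2 ⟨hd, by norm_num⟩
  have hcases : ∀ n ∈ Nat.divisors 80, n % 3 = 1 % 3 → n ≠ 1 → n = 4 ∨ n = 10 ∨ n = 16 ∨ n = 40 := by
    decide +kernel
  rcases hcases _ hmem hmod hne1 with hn | hn | hn | hn
  · rw [hn] at hemb
    exact absurd hemb (by decide)
  · exact ⟨normalizer ((P₀ : Subgroup G) : Set G), by rw [hn] at hN; omega⟩
  · -- a subgroup of order 45 normalizes a Sylow 5-subgroup
    exfalso
    rw [hn] at hN
    set N := normalizer ((P₀ : Subgroup G) : Set G) with hNdef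
    have hN45 : Nat.card N = 45 := by omega
    have h45 : Nat.card N = 5 ^ 1 * 9 := by rw [hN45]; norm_num
    have hd5 := card_sylow_dvd h45 (by norm_num)
    have hmod5 := card_sylow_mod (G := N) (p := 5)
    have hone : Nat.card (Sylow 5 N) = 1 := by
      have hm : Nat.card (Sylow 5 N) ∈ Nat.divisors 9 := Nat.mem_divisors.2 ⟨hd5, by norm_num⟩
      have hdd : ∀ n ∈ Nat.divisors 9, n % 5 = 1 % 5 → n = 1 := by decide +kernel
      exact hdd _ hm hmod5
    obtain ⟨S⟩ : Nonempty (Sylow 5 N) := inferInstance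
    haveI hsub : Subsingleton (Sylow 5 N) := (Nat.card_eq_one_iff_unique.1 hone).1
    have hSn : (S : Subgroup N).Normal := Sylow.normal_of_subsingleton S
    have hSc : Nat.card (S : Subgroup N) = 5 ^ 1 := sylow_card_of_card_eq h45 (by norm_num) S
    have hT : Nat.card ((S : Subgroup N).map N.subtype) = 5 ^ 1 := by
      rw [← hSc]
      exact Nat.card_congr (Subgroup.equivMapOfInjective _ N.subtype N.subtype_injective).toEquiv.symm
    obtain ⟨Q, hQ⟩ := exists_sylow_of_card_eq (p := 5) (a := 1) (m := 144) (by rw [h]; norm_num)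
      (by norm_num) _ hT
    have hle := le_normalizer_map_of_normal hSn
    rw [← hQ] at hle
    have := Subgroup.card_dvd_of_le hle
    rw [hN45, card_N5_720 hG h Q] at this
    revert this
    norm_num
  · -- two Sylow subgroups with a common subgroup of order three
    obtain ⟨P, R, hPR, hidx⟩ := Cfsg.Agent.S0985.result (G := G) 3 2 (by
      rw [hn]
      decide)
    have hidx2 := Subgroup.card_mul_index ((R : Subgroup G).subgroupOf (P : Subgroup G))
    rw [card_subgroupOf_eq_inf, hPc P] at hidx2
    have hi1 : ((R : Subgroup G).subgroupOf (P : Subgroup G)).index ≠ 1 := by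
      intro h1
      rw [Subgroup.index_eq_one, Subgroup.subgroupOf_eq_top] at h1
      apply hPR
      apply Sylow.ext
      exact Subgroup.eq_of_le_of_card_ge h1 (by rw [hPc, hPc])
    have hI : Nat.card ↥((R : Subgroup G) ⊓ (P : Subgroup G)) = 3 := by
      generalize ((R : Subgroup G).subgroupOf (P : Subgroup G)).index = i at *
      have hi0 : i ≠ 0 := by
        rintro rfl
        omega
      have hi2 : i ≠ 2 := by
        rintro rfl
        omega
      have hi3 : i = 3 := by
        norm_num at hidx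
        omega
      subst hi3
      omega
    obtain ⟨g', hg'⟩ := exists_prime_orderOf_dvd_card' (G := ↥((R : Subgroup G) ⊓ (P : Subgroup G))) 3 (by rw [hI])
    obtain ⟨g, hgI⟩ := g'
    have ho : orderOf g = 3 := by rw [← hg']; exact (Subgroup.orderOf_mk g hgI).symm
    have hg1 : g ≠ 1 := by
      rintro rfl
      rw [orderOf_one] at ho
      omega
    obtain ⟨hgR, hgP⟩ := Subgroup.mem_inf.1 hgI
    set A := centralizer ({g} : Set G) with hA
    have hPA : (P : Subgroup G) ≤ A := le_centralizer_of_sq _ (hPc P) hgP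
    have hRA : (R : Subgroup G) ≤ A := le_centralizer_of_sq _ (hPc R) hgR
    have hAtop : A ≠ ⊤ := centralizer_singleton_ne_top hG hg1
    have hA90 := card_le_ninety_720 hG h A hAtop
    have hAd : Nat.card A ∣ 720 := by
      rw [← h]
      exact Subgroup.card_subgroup_dvd_card _
    have hA9 : 9 ∣ Nat.card A := by
      have := Subgroup.card_dvd_of_le hPA
      rwa [hPc P] at this
    have hA5 : ¬ 5 ∣ Nat.card A := by
      intro h5
      obtain ⟨z, hz⟩ := exists_prime_orderOf_dvd_card' (G := A) 5 h5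
      obtain ⟨z, hzA⟩ := z
      have hoz : orderOf z = 5 := by rw [← hz]; exact (Subgroup.orderOf_mk z hzA).symm
      have := orderOf_dvd_five_720 hG h hoz (Subgroup.mem_centralizer_singleton_iff.1 hzA).symm
      rw [ho] at this
      revert this
      norm_num
    have hAmem : Nat.card A ∈ Nat.divisors 720 := Nat.mem_divisors.2 ⟨hAd, by norm_num⟩
    have hAcases : ∀ a ∈ Nat.divisors 720, 9 ∣ a → a ≤ 90 → ¬ 5 ∣ a → a = 9 ∨ a = 18 ∨ a = 36 ∨ a = 72 := by
      decide +kernel
    -- Sylow subgroups of `A`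
    have hell : Nat.card (Sylow 3 A) ≠ 1 := by
      intro h1
      haveI hs : Subsingleton (Sylow 3 A) := (Nat.card_eq_one_iff_unique.1 h1).1
      have hP' : IsPGroup 3 ((P : Subgroup G).subgroupOf A) := IsPGroup.comap_subtype P.isPGroup'
      have hR' : IsPGroup 3 ((R : Subgroup G).subgroupOf A) := IsPGroup.comap_subtype R.isPGroup'
      obtain ⟨S, hS⟩ := hP'.exists_le_sylow
      obtain ⟨S', hS'⟩ := hR'.exists_le_sylow
      have hSS : S' = S := Subsingleton.elim _ _
      rw [hSS] at hS'
      -- both are contained in the same `3`-subgroup of `G`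
      have hmap : IsPGroup 3 ((S : Subgroup A).map A.subtype) := S.isPGroup'.map A.subtype
      have hPle : (P : Subgroup G) ≤ (S : Subgroup A).map A.subtype := by
        intro u hu
        exact ⟨⟨u, hPA hu⟩, hS (Subgroup.mem_subgroupOf.2 hu), rfl⟩
      have hRle : (R : Subgroup G) ≤ (S : Subgroup A).map A.subtype := by
        intro u hu
        exact ⟨⟨u, hRA hu⟩, hS' (Subgroup.mem_subgroupOf.2 hu), rfl⟩
      have h1P := P.is_maximal' hmap hPle
      have h1R := R.is_maximal' hmap hRle
      exact hPR (Sylow.ext (h1P.symm.trans h1R))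
    have ell_one : ∀ c : ℕ, Nat.card A = 3 ^ 2 * c → c < 3 → c ≠ 0 → False := by
      intro c hbc hc hc0
      apply hell
      have h1 := card_sylow_dvd hbc (by
        intro hd
        have := Nat.le_of_dvd (Nat.pos_of_ne_zero hc0) hd
        omega)
      have h2 := card_sylow_mod (G := A) (p := 3)
      have h3 := Nat.le_of_dvd (Nat.pos_of_ne_zero hc0) h1
      have h4 : Nat.card (Sylow 3 A) ≠ 0 := Nat.card_pos.ne'
      omega
    rcases hAcases _ hAmem hA9 hA90 hA5 with h1 | h1 | h1 | h1
    · exact (ell_one 1 (by rw [h1]; norm_num) (by norm_num) (by norm_num)).elim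
    · exact (ell_one 2 (by rw [h1]; norm_num) (by norm_num) (by norm_num)).elim
    · -- the case `|A| = 36`
      have hbc : Nat.card A = 3 ^ 2 * 4 := by rw [h1]; norm_num
      have hl4 : Nat.card (Sylow 3 A) = 4 := by
        have h2 := card_sylow_dvd hbc (by norm_num)
        have h3 := card_sylow_mod (G := A) (p := 3)
        have hm : Nat.card (Sylow 3 A) ∈ Nat.divisors 4 := Nat.mem_divisors.2 ⟨h2, by norm_num⟩
        have hd : ∀ x ∈ Nat.divisors 4, x % 3 = 1 % 3 → x ≠ 1 → x = 4 := by decide +kernel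
        exact hd _ hm h3 hell
      obtain ⟨S⟩ : Nonempty (Sylow 3 A) := inferInstance
      have hS : Nat.card (S : Subgroup A) = 3 ^ 2 := sylow_card_of_card_eq hbc (by norm_num) S
      have hNS : Nat.card (normalizer ((S : Subgroup A) : Set A)) = 9 := by
        have h2 := card_normalizer_mul_card_sylow S
        rw [hl4, h1] at h2
        omega
      have hNS2 : (S : Subgroup A) = normalizer ((S : Subgroup A) : Set A) :=
        Subgroup.eq_of_le_of_card_ge le_normalizer (by rw [hNS, hS]; norm_num)
      have hle : normalizer ((S : Subgroup A) : Set A) ≤ centralizer ((S : Subgroup A) : Set A) := by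
        rw [← hNS2]
        letI := IsPGroup.commGroupOfCardEqPrimeSq hS
        intro x hx
        rw [Subgroup.mem_centralizer_iff]
        intro y hy
        exact congrArg Subtype.val (mul_comm (⟨y, hy⟩ : (S : Subgroup A)) ⟨x, hx⟩)
      obtain ⟨K₀, hK₀n, hcomp⟩ : ∃ K₀ : Subgroup A, K₀.Normal ∧ IsComplement' K₀ (S : Subgroup A) :=
        ⟨_, inferInstance, MonoidHom.ker_transferSylow_isComplement' S hle⟩
      have hK₀c : Nat.card K₀ = 4 := by
        have := hcomp.card_mul_card
        rw [hS, h1] at this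
        omega
      set T₀ : Subgroup G := K₀.map A.subtype with hT₀
      have hT₀c : Nat.card T₀ = 2 ^ 2 := by
        have : Nat.card T₀ = Nat.card K₀ :=
          Nat.card_congr (Subgroup.equivMapOfInjective K₀ A.subtype A.subtype_injective).toEquiv.symm
        rw [this, hK₀c]
        norm_num
      have hAN : A ≤ normalizer ((T₀ : Subgroup G) : Set G) := le_normalizer_map_of_normal hK₀n
      -- the normalizer contains an element of a Sylow `2`-subgroup outside `T₀`
      have hT₀p : IsPGroup 2 T₀ := by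
        rw [IsPGroup.iff_card]
        exact ⟨2, hT₀c⟩
      obtain ⟨Q, hQ⟩ := hT₀p.exists_le_sylow
      have hQc : Nat.card (Q : Subgroup G) = 2 ^ 4 :=
        sylow_card_of_card_eq (a := 4) (m := 45) (by rw [h]; norm_num) (by norm_num) Q
      have hlt : T₀.subgroupOf (Q : Subgroup G) < ⊤ := by
        rw [lt_top_iff_ne_top]
        intro htop
        rw [Subgroup.subgroupOf_eq_top] at htop
        have := Subgroup.card_le_of_le htop
        rw [hT₀c, hQc] at this
        norm_num at this
      haveI hQnil : Group.IsNilpotent (Q : Subgroup G) := Q.isPGroup'.isNilpotent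
      have hcond := Group.normalizerCondition_of_isNilpotent (G := (Q : Subgroup G)) _ hlt
      obtain ⟨⟨q, hqQ⟩, hqN, hqT⟩ := SetLike.exists_of_lt hcond
      set NT := normalizer ((T₀ : Subgroup G) : Set G) with hNT
      have hqNT : q ∈ NT := by
        apply mem_normalizer_of_conj_le
        intro u hu
        have huQ : u ∈ (Q : Subgroup G) := hQ hu
        have h2 := (Subgroup.mem_normalizer_iff.1 hqN ⟨u, huQ⟩).1 (Subgroup.mem_subgroupOf.2 hu)
        exact Subgroup.mem_subgroupOf.1 h2
      have hqT' : q ∉ T₀ := fun h0 => hqT (Subgroup.mem_subgroupOf.2 h0)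
      set L := NT ⊓ (Q : Subgroup G) with hL
      have hTL : T₀ ≤ L := le_inf le_normalizer hQ
      have hL1 : Nat.card L ∣ 2 ^ 4 := by
        rw [← hQc]
        exact Subgroup.card_dvd_of_le inf_le_right
      have hL2 : 2 ^ 2 ∣ Nat.card L := by
        rw [← hT₀c]
        exact Subgroup.card_dvd_of_le hTL
      have hL3 : Nat.card L ≠ 4 := by
        intro h4
        have : T₀ = L := Subgroup.eq_of_le_of_card_ge hTL (by rw [h4, hT₀c]; norm_num)
        apply hqT'
        rw [this]
        exact Subgroup.mem_inf.2 ⟨hqNT, hqQ⟩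
      have hL4 : 8 ∣ Nat.card L := by
        have hm : Nat.card L ∈ Nat.divisors 16 := Nat.mem_divisors.2 ⟨by simpa using hL1, by norm_num⟩
        have hdd : ∀ l ∈ Nat.divisors 16, 4 ∣ l → l ≠ 4 → 8 ∣ l := by decide +kernel
        exact hdd _ hm (by simpa using hL2) hL3
      have h8 : 8 ∣ Nat.card NT := dvd_trans hL4 (Subgroup.card_dvd_of_le inf_le_left)
      have h36 : 36 ∣ Nat.card NT := by
        rw [← h1]
        exact Subgroup.card_dvd_of_le hAN
      have h72 : 72 ∣ Nat.card NT := by
        have : Nat.lcm 8 36 ∣ Nat.card NT := Nat.lcm_dvd h8 h36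
        rwa [show Nat.lcm 8 36 = 72 by decide] at this
      have hNTtop : NT ≠ ⊤ := by
        intro htop
        have hn : T₀.Normal := normalizer_eq_top_iff.1 htop
        rcases hn.eq_bot_or_eq_top with h0 | h0
        · rw [h0, Subgroup.card_bot] at hT₀c
          omega
        · rw [h0, Subgroup.card_top, h] at hT₀c
          omega
      have hNT90 := card_le_ninety_720 hG h NT hNTtop
      refine ⟨NT, ?_⟩
      obtain ⟨k, hk⟩ := h72
      have h0 : 0 < Nat.card NT := Nat.card_pos
      have hk0 : k ≠ 0 := by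
        rintro rfl
        omega
      have hk1 : k = 1 := by omega
      rw [hk, hk1]
    · exact ⟨A, h1⟩

end o720

/-- There is no simple group of order 720. -/
theorem card_ne_720 {G : Type*} [Group G] [Finite G] [IsSimpleGroup G] (hG : ¬ IsMulCommutative G) :
    Nat.card G ≠ 720 := by
  intro h
  obtain ⟨M, hM⟩ := exists_subgroup_72 hG h
  have hMtop : M ≠ ⊤ := by
    rintro rfl
    rw [Subgroup.card_top, h] at hM
    omega
  have hidx : Nat.card (G ⧸ M) = 10 := by
    rw [← Subgroup.index_eq_card]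
    have := Subgroup.card_mul_index M
    rw [hM, h] at this
    omega
  haveI hfaith : FaithfulSMul G (G ⧸ M) := by
    refine ⟨fun {g₁ g₂} hh => ?_⟩
    let φ : G →* Equiv.Perm (G ⧸ M) := MulAction.toPermHom G (G ⧸ M)
    rcases (inferInstance : φ.ker.Normal).eq_bot_or_eq_top with h0 | h0
    · have hmem : g₁⁻¹ * g₂ ∈ φ.ker := by
        rw [MonoidHom.mem_ker]
        ext a
        show (g₁⁻¹ * g₂) • a = a
        rw [mul_smul, ← hh a, smul_smul, inv_mul_cancel, one_smul]
      rw [h0, Subgroup.mem_bot] at hmem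
      exact inv_mul_eq_one.1 hmem
    · exfalso
      apply hMtop
      rw [eq_top_iff]
      intro g _
      have hg : g ∈ φ.ker := by rw [h0]; trivial
      have h1 : g • ((1 : G) : G ⧸ M) = ((1 : G) : G ⧸ M) :=
        congrArg (fun f : Equiv.Perm (G ⧸ M) => f ((1 : G) : G ⧸ M)) hg
      have h2 := QuotientGroup.eq.1 (show ((g : G) : G ⧸ M) = ((1 : G) : G ⧸ M) by simpa using h1)
      simpa using h2
  obtain ⟨x, y, hx, hy, ht⟩ := exists_xy_720 hG h
  exact false_of_ten (Ω := G ⧸ M) hG h hidx hx hy ht (no10_720 hG h)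

set_option maxRecDepth 100000 in
/-- The result of the sieve for orders up to 1092. -/
theorem sweep_1092 : (List.range 1093).all (fun n => decide (n ≤ 1) || n == 60 || n == 168 || n == 360 || n == 504 ||
    n == 660 || n == 720 || n == 756 || n == 1008 || n == 1080 || n == 1092 || sieve n) = true := by
  decide +kernel

end Cfsg.Agent.H87Ord
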